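import Mathlib
import Groth.Prelude.Def_W4c5suslinpi1abAdj

/-!
# Basic calculus of projection morphisms, exterior products and shriek products
-/

universe v u

open CategoryTheory MonoidalCategory Functor.LaxMonoidal Functor.OplaxMonoidal

namespace Groth.Agent.SuslinAdj

open W4c5suslinpi1ab

variable {C : Type u} [Category.{v} C] [MonoidalCategory C]
variable {D : Type u} [Category.{v} D] [MonoidalCategory D]

section proj

variable {L : C ⥤ D} {R : D ⥤ C} (adj : L ⊣ R) [R.LaxMonoidal]

/-- Transpose of the right projection morphism. -/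
lemma map_projR_comp_counit [L.OplaxMonoidal] [adj.IsMonoidal] (A : D) (B : C) :
    L.map (projR adj A B) ≫ adj.counit.app (A ⊗ L.obj B) =
      δ L (R.obj A) B ≫ (adj.counit.app A ▷ L.obj B) := by
  simp only [projR, Functor.map_comp, Category.assoc, Adjunction.map_μ_comp_counit_app_tensor]
  dsimp
  rw [← δ_natural_right_assoc, MonoidalCategory.tensorHom_def', ← whiskerLeft_comp_assoc,
    Adjunction.left_triangle_components, whiskerLeft_id, Category.id_comp]

/-- Transpose of the left projection morphism. -/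
lemma map_projL_comp_counit [L.OplaxMonoidal] [adj.IsMonoidal] (A : C) (B : D) :
    L.map (projL adj A B) ≫ adj.counit.app (L.obj A ⊗ B) =
      δ L A (R.obj B) ≫ (L.obj A ◁ adj.counit.app B) := by
  simp only [projL, Functor.map_comp, Category.assoc, Adjunction.map_μ_comp_counit_app_tensor]
  dsimp
  rw [← δ_natural_left_assoc, MonoidalCategory.tensorHom_def, ← comp_whiskerRight_assoc,
    Adjunction.left_triangle_components, id_whiskerRight, Category.id_comp]

@[reassoc]
lemma projR_natural {A A' : D} {B B' : C} (a : A ⟶ A') (b : B ⟶ B') :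
    (R.map a ⊗ₘ b) ≫ projR adj A' B' = projR adj A B ≫ R.map (a ⊗ₘ L.map b) := by
  simp only [projR, Category.assoc, ← Functor.LaxMonoidal.μ_natural]
  rw [← id_tensorHom, ← id_tensorHom, tensorHom_comp_tensorHom_assoc,
    tensorHom_comp_tensorHom_assoc]
  simp

@[reassoc]
lemma projL_natural {A A' : C} {B B' : D} (a : A ⟶ A') (b : B ⟶ B') :
    (a ⊗ₘ R.map b) ≫ projL adj A' B' = projL adj A B ≫ R.map (L.map a ⊗ₘ b) := by
  simp only [projL, Category.assoc, ← Functor.LaxMonoidal.μ_natural]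
  rw [← tensorHom_id, ← tensorHom_id, tensorHom_comp_tensorHom_assoc,
    tensorHom_comp_tensorHom_assoc]
  simp

variable {S : C ⥤ D} (adj' : R ⊣ S) [∀ (A : D) (B : C), IsIso (projR adj A B)]

/-- The transpose of `cupShriek`. -/
@[reassoc]
lemma map_cupShriek_comp_counit (A B : C) :
    R.map (cupShriek adj adj' A B) ≫ adj'.counit.app (A ⊗ B) =
      inv (projR adj (S.obj A) B) ≫ (adj'.counit.app A ▷ B) := by
  have h := (adj'.homEquiv _ _).symm_apply_apply
    (inv (projR adj (S.obj A) B) ≫ (adj'.counit.app A ▷ B))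
  rw [Adjunction.homEquiv_counit] at h
  exact h

lemma cupShriek_natural_right (A : C) {B B' : C} (b : B ⟶ B') :
    (S.obj A ◁ L.map b) ≫ cupShriek adj adj' A B' = cupShriek adj adj' A B ≫ S.map (A ◁ b) := by
  have h := projR_natural adj (𝟙 (S.obj A)) b
  simp only [R.map_id, id_tensorHom] at h
  apply (adj'.homEquiv _ _).symm.injective
  simp only [Adjunction.homEquiv_counit, R.map_comp, Category.assoc]
  rw [map_cupShriek_comp_counit]
  have h1 := adj'.counit.naturality (A ◁ b)
  simp only [Functor.comp_map, Functor.id_map, Functor.comp_obj, Functor.id_obj] at h1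
  rw [h1, map_cupShriek_comp_counit_assoc, IsIso.eq_inv_comp, ← whisker_exchange, ← Category.assoc,
    ← Category.assoc, ← h]
  simp

end proj

section Square

variable {S₀ : Type u} [Category.{v} S₀] [MonoidalCategory S₀]
variable {Y₁ : Type u} [Category.{v} Y₁] [MonoidalCategory Y₁]
variable {Y₂ : Type u} [Category.{v} Y₂]
variable {X : Type u} [Category.{v} X] [MonoidalCategory X]
variable {fL : S₀ ⥤ Y₁} {fR : Y₁ ⥤ S₀} {gR : Y₂ ⥤ S₀}
variable {pL : Y₁ ⥤ X} {pR : X ⥤ Y₁} {qL : Y₂ ⥤ X} {qR : X ⥤ Y₂}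
variable (adjf : fL ⊣ fR) (adjp : pL ⊣ pR) (adjq : qL ⊣ qR) [fR.LaxMonoidal] [pR.LaxMonoidal]
  (ν : qR ⋙ gR ⟶ pR ⋙ fR)

@[reassoc]
lemma extProd_natural {A A' : Y₁} {B B' : Y₂} (a : A ⟶ A') (b : B ⟶ B') :
    (fR.map a ⊗ₘ gR.map b) ≫ extProd adjf adjp adjq ν A' B' =
      extProd adjf adjp adjq ν A B ≫ fR.map (pR.map (pL.map a ⊗ₘ qL.map b)) := by
  have h2 := (bcMor adjf adjq ν).naturality b
  simp only [Functor.comp_map, Functor.comp_obj] at h2
  simp only [extProd, Category.assoc]
  rw [projR_natural_assoc]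
  simp only [← fR.map_comp]
  congr 2
  rw [← projL_natural, ← id_tensorHom, ← id_tensorHom, tensorHom_comp_tensorHom_assoc,
    tensorHom_comp_tensorHom_assoc, h2]
  simp

lemma extProd_transpose [fL.OplaxMonoidal] [adjf.IsMonoidal] [pL.OplaxMonoidal] [adjp.IsMonoidal]
    (A : Y₁) (B : Y₂) :
    ((adjf.comp adjp).homEquiv _ _).symm (extProd adjf adjp adjq ν A B) =
      δ (fL ⋙ pL) (fR.obj A) (gR.obj B) ≫
        (pL.map (adjf.counit.app A) ⊗ₘ
          (pL.map ((bcMor adjf adjq ν).app B) ≫ adjp.counit.app (qL.obj B))) := by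
  have e : fL.map (extProd adjf adjp adjq ν A B) ≫ adjf.counit.app _ =
      δ fL (fR.obj A) (gR.obj B) ≫ (adjf.counit.app A ⊗ₘ (bcMor adjf adjq ν).app B) ≫
        projL adjp A (qL.obj B) := by
    simp only [extProd, fL.map_comp, Category.assoc]
    erw [Adjunction.counit_naturality, Adjunction.counit_naturality_assoc,
      reassoc_of% (map_projR_comp_counit adjf)]
    rw [MonoidalCategory.tensorHom_def, Category.assoc]
    rfl
  simp only [Adjunction.comp_homEquiv, Equiv.symm_trans_apply, Adjunction.homEquiv_counit]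
  rw [e]
  simp only [Functor.map_comp, Category.assoc, map_projL_comp_counit,
    Functor.OplaxMonoidal.comp_δ]
  erw [← δ_natural_assoc]
  rw [← id_tensorHom, tensorHom_comp_tensorHom]
  erw [Category.comp_id]

variable {fS : S₀ ⥤ Y₁} (adjf' : fR ⊣ fS) {gS : S₀ ⥤ Y₂} (adjg' : gR ⊣ gS)
    {pS : Y₁ ⥤ X} (adjp' : pR ⊣ pS)
    [∀ (A : Y₁) (B : S₀), IsIso (projR adjf A B)]
    [∀ (A : Y₁) (B : X), IsIso (projL adjp A B)]
    [∀ B : Y₂, IsIso ((bcMor adjf adjq ν).app B)]

lemma isIso_extProd (A : Y₁) (B : Y₂) : IsIso (extProd adjf adjp adjq ν A B) := by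
  unfold extProd
  infer_instance

@[reassoc]
lemma map_prodShriek_comp_counit (A B : S₀) :
    pR.map (prodShriek adjf adjf' adjg' adjp adjp' adjq ν A B) ≫ adjp'.counit.app _ =
      inv (projL adjp (fS.obj A) (qL.obj (gS.obj B))) ≫
        (fS.obj A ◁ inv ((bcMor adjf adjq ν).app (gS.obj B))) ≫
        cupShriek adjf adjf' A (gR.obj (gS.obj B)) ≫ fS.map (A ◁ adjg'.counit.app B) := by
  have h := (adjp'.homEquiv _ _).symm_apply_apply
    (inv (projL adjp (fS.obj A) (qL.obj (gS.obj B))) ≫
        (fS.obj A ◁ inv ((bcMor adjf adjq ν).app (gS.obj B))) ≫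
        cupShriek adjf adjf' A (gR.obj (gS.obj B)) ≫ fS.map (A ◁ adjg'.counit.app B))
  rw [Adjunction.homEquiv_counit] at h
  exact h

lemma extProd_prodShriek_counit (A B : S₀) :
    extProd adjf adjp adjq ν (fS.obj A) (gS.obj B) ≫
      fR.map (pR.map (prodShriek adjf adjf' adjg' adjp adjp' adjq ν A B)) ≫
        fR.map (adjp'.counit.app (fS.obj (A ⊗ B))) =
      (fR.obj (fS.obj A) ◁ adjg'.counit.app B) ≫ projR adjf (fS.obj A) B ≫
        fR.map (cupShriek adjf adjf' A B) := by
  rw [← fR.map_comp, map_prodShriek_comp_counit]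
  simp only [extProd, Category.assoc, ← fR.map_comp, IsIso.hom_inv_id_assoc,
    MonoidalCategory.whiskerLeft_hom_inv_assoc]
  rw [← whiskerLeft_comp_assoc, IsIso.hom_inv_id, whiskerLeft_id, Category.id_comp,
    ← cupShriek_natural_right, fR.map_comp]
  have h := projR_natural adjf (𝟙 (fS.obj A)) (adjg'.counit.app B)
  simp only [fR.map_id, id_tensorHom] at h
  exact ((reassoc_of% h) _).symm

lemma extProd_transpose_prodShriek (A B : S₀) :
    extProd adjf adjp adjq ν (fS.obj A) (gS.obj B) ≫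
      ((adjp'.comp adjf').homEquiv _ _).symm
        (prodShriek adjf adjf' adjg' adjp adjp' adjq ν A B) =
      (adjf'.counit.app A ⊗ₘ adjg'.counit.app B) := by
  simp only [Adjunction.comp_homEquiv, Equiv.symm_trans_apply, Adjunction.homEquiv_counit,
    Functor.map_comp, Category.assoc]
  rw [reassoc_of% (extProd_prodShriek_counit adjf adjp adjq ν adjf' adjg' adjp' A B),
    map_cupShriek_comp_counit, IsIso.hom_inv_id_assoc, MonoidalCategory.tensorHom_def']
  rfl

lemma prodShriek_compatible_iff (A B : S₀) (A' : Y₁) (B' : Y₂) (C' : X)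
    (trA : A' ⟶ fS.obj A) (trB : B' ⟶ gS.obj B) (trC : C' ⟶ pS.obj (fS.obj (A ⊗ B)))
    (m : pL.obj A' ⊗ qL.obj B' ⟶ C') :
    ((pL.map trA ⊗ₘ qL.map trB) ≫ prodShriek adjf adjf' adjg' adjp adjp' adjq ν A B =
        m ≫ trC) ↔
      (((adjf'.homEquiv _ _).symm trA ⊗ₘ (adjg'.homEquiv _ _).symm trB) =
        extProd adjf adjp adjq ν A' B' ≫ fR.map (pR.map m) ≫
          ((adjp'.comp adjf').homEquiv _ _).symm trC) := by
  have := isIso_extProd adjf adjp adjq ν A' B'
  rw [← ((adjp'.comp adjf').homEquiv _ _).symm.injective.eq_iff,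
    Adjunction.homEquiv_naturality_left_symm, Adjunction.homEquiv_naturality_left_symm,
    ← cancel_epi (extProd adjf adjp adjq ν A' B'), Functor.comp_map, Functor.comp_map,
    ← extProd_natural_assoc, extProd_transpose_prodShriek, tensorHom_comp_tensorHom]
  simp only [Adjunction.homEquiv_counit]

end Square

end Groth.Agent.SuslinAdj
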